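import Cfsg.Agent.ONType.Psl
import Cfsg.Agent.ONType.Lift
import Cfsg.Agent.ONType.Nontriv
import Cfsg.Agent.ONType.PslCard
import Cfsg.Agent.S0014
import Cfsg.Agent.StdL34.ExistsCov
set_option linter.all false

-- part: OddHalf/D9/L34Mult/Lift
section
/-!
# Canonical lifts of the root elements to an arbitrary central extension of `PSL(3,4)`

No hypothesis on the kernel.
-/

set_option autoImplicit false
set_option linter.constructorNameAsVariable false
set_option linter.unusedVariables false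

namespace Cfsg.Agent.OddHalf.D9.L34Mult

open Cfsg.Agent.SporadicA.FieldFour
open Cfsg.Agent.ONType.Psl
open Cfsg.Agent.ONType.Lift (third third_spec)

/-- `M` is a central extension of `PSL(3,4)`. -/
structure CE {M : Type*} [Group M] (π : M →* PSL3) : Prop where
  surj : Function.Surjective π
  cen : ∀ k : M, π k = 1 → ∀ m : M, k * m = m * k

variable {M : Type*} [Group M] {π : M →* PSL3}

/-- the canonical lift obtained from an arbitrary lift `y` -/
def hat (h y : M) : M := y⁻¹ * (h⁻¹ * y * h)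

namespace CE

variable (C : CE π)
include C

omit C in
theorem eq_mul_of_map_eq {y y' : M} (h : π y = π y') : ∃ c, π c = 1 ∧ y' = y * c :=
  ⟨y⁻¹ * y', by rw [map_mul, map_inv, h, inv_mul_cancel], by group⟩

/-- elements commuting modulo the centre with two elements centralise their commutator -/
theorem three_sub {a p q : M} (hp : π a * π p = π p * π a) (hq : π a * π q = π q * π a) :
    Commute a (p⁻¹ * q⁻¹ * p * q) := by
  obtain ⟨c, hc, hc'⟩ := eq_mul_of_map_eq (y := p) (y' := a⁻¹ * p * a)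
    (by rw [map_mul, map_mul, map_inv, mul_assoc, ← hp, inv_mul_cancel_left])
  obtain ⟨d, hd, hd'⟩ := eq_mul_of_map_eq (y := q) (y' := a⁻¹ * q * a)
    (by rw [map_mul, map_mul, map_inv, mul_assoc, ← hq, inv_mul_cancel_left])
  have e1 : a⁻¹ * (p⁻¹ * q⁻¹ * p * q) * a = p⁻¹ * q⁻¹ * p * q := by
    have : a⁻¹ * (p⁻¹ * q⁻¹ * p * q) * a =
        (a⁻¹ * p * a)⁻¹ * (a⁻¹ * q * a)⁻¹ * (a⁻¹ * p * a) * (a⁻¹ * q * a) := by group
    rw [this, hc', hd']
    have cc := C.cen c hc
    have dd := C.cen d hd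
    calc (p * c)⁻¹ * (q * d)⁻¹ * (p * c) * (q * d)
        = c⁻¹ * p⁻¹ * d⁻¹ * q⁻¹ * (p * c) * (q * d) := by group
      _ = c⁻¹ * p⁻¹ * d⁻¹ * q⁻¹ * (c * p) * (d * q) := by rw [cc p, dd q]
      _ = c⁻¹ * (p⁻¹ * d⁻¹) * (q⁻¹ * c) * (p * d) * q := by group
      _ = c⁻¹ * (d⁻¹ * p⁻¹) * (c * q⁻¹) * (d * p) * q := by
          rw [cc q⁻¹, ← dd p]
          rw [show p⁻¹ * d⁻¹ = d⁻¹ * p⁻¹ by rw [← mul_inv_rev, ← mul_inv_rev, dd p]]
      _ = c⁻¹ * d⁻¹ * (p⁻¹ * c) * q⁻¹ * (d * p) * q := by group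
      _ = c⁻¹ * d⁻¹ * (c * p⁻¹) * q⁻¹ * (p * d) * q := by rw [← cc p⁻¹, dd p]
      _ = c⁻¹ * (d⁻¹ * c) * p⁻¹ * q⁻¹ * p * (d * q) := by group
      _ = c⁻¹ * (c * d⁻¹) * p⁻¹ * q⁻¹ * p * (q * d) := by rw [cc d⁻¹, dd q]
      _ = d⁻¹ * (p⁻¹ * q⁻¹ * p * q * d) := by group
      _ = d⁻¹ * (d * (p⁻¹ * q⁻¹ * p * q)) := by rw [dd]
      _ = p⁻¹ * q⁻¹ * p * q := by group
  have e2 : a * (p⁻¹ * q⁻¹ * p * q) = (p⁻¹ * q⁻¹ * p * q) * a := by
    conv_lhs => rw [← e1]
    group
  exact e2

/-- some lift -/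
noncomputable def l (p : PSL3) : M := (C.surj p).choose

theorem l_spec (p : PSL3) : π (C.l p) = p := (C.surj p).choose_spec

/-- a lift of the torus element -/
noncomputable def h : M := C.l hh

theorem map_h : π C.h = hh := C.l_spec _

theorem comm_lift {i j : Fin 3} (hij : i ≠ j) {u v : F4} {y y' : M} (hy : π y = t i j u)
    (hy' : π y' = t i j v) : Commute y y' := by
  obtain ⟨h1, h2⟩ := third_spec i j hij
  set k := third i j
  set p := C.l (t i k 1) with hp
  set q := C.l (t k j v) with hq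
  have ep : π p = t i k 1 := C.l_spec _
  have eq : π q = t k j v := C.l_spec _
  have hc : π (p⁻¹ * q⁻¹ * p * q) = t i j v := by
    simp only [map_mul, map_inv, ep, eq]
    have := t_sum i j k 1 v hij h1 h2
    rw [one_mul] at this
    rw [mul_assoc, this]; group
  obtain ⟨c, hc1, hc2⟩ := eq_mul_of_map_eq (hc.trans hy'.symm)
  have hA : Commute y (p⁻¹ * q⁻¹ * p * q) := by
    apply C.three_sub
    · rw [hy, ep]; exact t_row i j k u 1 hij h1
    · rw [hy, eq]; exact t_col i j k u v hij h2.symm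
  rw [hc2]
  exact hA.mul_right (C.cen c hc1 y).symm

/-- conjugation only depends on the image -/
theorem conj_central' {y c : M} (hc : π c = 1) (m : M) : (y * c)⁻¹ * m * (y * c) = y⁻¹ * m * y := by
  have cc := C.cen c hc
  calc (y * c)⁻¹ * m * (y * c) = c⁻¹ * (y⁻¹ * m * y * c) := by group
    _ = c⁻¹ * (c * (y⁻¹ * m * y)) := by rw [cc]
    _ = _ := by group

theorem hat_mul_central (h y c : M) (hc : π c = 1) : hat h (y * c) = hat h y := by
  have cc := C.cen c hc
  unfold hat
  calc (y * c)⁻¹ * (h⁻¹ * (y * c) * h) = c⁻¹ * y⁻¹ * (h⁻¹ * y * (c * h)) := by group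
    _ = c⁻¹ * (y⁻¹ * (h⁻¹ * y * h) * c) := by rw [cc h]; group
    _ = c⁻¹ * (c * (y⁻¹ * (h⁻¹ * y * h))) := by rw [cc]
    _ = _ := by group

theorem hat_mul_central' (h y c : M) (hc : π c = 1) : hat (h * c) y = hat h y := by
  unfold hat
  rw [C.conj_central' hc]

/-- conjugates of lifts by `h` -/
theorem map_conj {i j : Fin 3} (hij : i ≠ j) {u : F4} {y h : M} (hh0 : π h = hh)
    (hy : π y = t i j u) : π (h⁻¹ * y * h) = t i j (kap i j * u) := by
  rw [map_mul, map_mul, map_inv, hy, hh0, mul_assoc, t_h i j u hij, inv_mul_cancel_left]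

omit C in
theorem kap_mul (i j : Fin 3) (hij : i ≠ j) (u : F4) : kap i j * (kap j i * u) = u := by
  revert i j u; decide

omit C in
theorem kap_mul' (i j : Fin 3) (hij : i ≠ j) (u : F4) : kap j i * (kap i j * u) = u := by
  revert i j u; decide

theorem map_conj' {i j : Fin 3} (hij : i ≠ j) {u : F4} {y h : M} (hh0 : π h = hh)
    (hy : π y = t i j u) : π (h * y * h⁻¹) = t i j (kap j i * u) := by
  rw [map_mul, map_mul, map_inv, hy, hh0, mul_inv_eq_iff_eq_mul]
  rw [t_h i j _ hij, kap_mul i j hij]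

omit C in
theorem t_inv (i j : Fin 3) (hij : i ≠ j) (u : F4) : (t i j u)⁻¹ = t i j u := by
  apply inv_eq_of_mul_eq_one_left
  rw [t_add i j u u hij]
  have : u + u = 0 := by revert u; decide
  rw [this, t_zero]

theorem map_hat {i j : Fin 3} (hij : i ≠ j) {u : F4} {y : M} (hy : π y = t i j u) :
    π (hat C.h y) = t i j (kap j i * u) := by
  unfold hat
  rw [map_mul, C.map_conj hij C.map_h hy, map_inv, hy, t_inv i j hij, t_add i j _ _ hij]
  congr 1
  have : ∀ i j : Fin 3, i ≠ j → ∀ u : F4, u + kap i j * u = kap j i * u := by decide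
  exact this i j hij u

theorem hat_eq {i j : Fin 3} (hij : i ≠ j) {u : F4} {y y' : M} (hy : π y = t i j u)
    (hy' : π y' = t i j u) : hat C.h y = hat C.h y' := by
  obtain ⟨c, h1, h2⟩ := eq_mul_of_map_eq (hy.trans hy'.symm)
  rw [h2, C.hat_mul_central _ _ _ h1]

/-- the canonical lift -/
noncomputable def x (i j : Fin 3) (u : F4) : M := hat C.h (C.l (t i j (kap i j * u)))

theorem x_eq {i j : Fin 3} (hij : i ≠ j) {u : F4} {y : M} (hy : π y = t i j (kap i j * u)) :
    C.x i j u = hat C.h y := C.hat_eq hij (C.l_spec _) hy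

theorem map_x (i j : Fin 3) (hij : i ≠ j) (u : F4) : π (C.x i j u) = t i j u := by
  have := C.map_hat hij (C.l_spec (t i j (kap i j * u)))
  rw [kap_mul' i j hij] at this
  exact this

theorem x_add (i j : Fin 3) (hij : i ≠ j) (u v : F4) : C.x i j u * C.x i j v = C.x i j (u + v) := by
  set y := C.l (t i j (kap i j * u))
  set y' := C.l (t i j (kap i j * v))
  have ey : π y = t i j (kap i j * u) := C.l_spec _
  have ey' : π y' = t i j (kap i j * v) := C.l_spec _
  have e1 : π (y * y') = t i j (kap i j * (u + v)) := by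
    rw [map_mul, ey, ey', t_add _ _ _ _ hij, mul_add]
  rw [C.x_eq hij e1, C.x_eq hij ey, C.x_eq hij ey']
  have a1 : Commute y y' := C.comm_lift hij ey ey'
  have a2 : Commute (C.h⁻¹ * y * C.h) y' := C.comm_lift hij (C.map_conj hij C.map_h ey) ey'
  unfold hat
  calc y⁻¹ * (C.h⁻¹ * y * C.h) * (y'⁻¹ * (C.h⁻¹ * y' * C.h))
      = y⁻¹ * ((C.h⁻¹ * y * C.h) * y'⁻¹) * (C.h⁻¹ * y' * C.h) := by group
    _ = y⁻¹ * (y'⁻¹ * (C.h⁻¹ * y * C.h)) * (C.h⁻¹ * y' * C.h) := by rw [a2.inv_right.eq]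
    _ = (y⁻¹ * y'⁻¹) * (C.h⁻¹ * (y * y') * C.h) := by group
    _ = (y * y')⁻¹ * (C.h⁻¹ * (y * y') * C.h) := by rw [← mul_inv_rev, a1.eq]

theorem x_zero (i j : Fin 3) (hij : i ≠ j) : C.x i j 0 = 1 := by
  have h := C.x_add i j hij 0 0
  rw [add_zero] at h
  exact mul_eq_left.mp h

theorem x_sq (i j : Fin 3) (hij : i ≠ j) (u : F4) : C.x i j u * C.x i j u = 1 := by
  rw [C.x_add i j hij]
  have : u + u = 0 := by revert u; decide
  rw [this, C.x_zero i j hij]

theorem x_inv (i j : Fin 3) (hij : i ≠ j) (u : F4) : (C.x i j u)⁻¹ = C.x i j u :=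
  inv_eq_of_mul_eq_one_left (C.x_sq i j hij u)

theorem conj_eq {h' : M} (hh' : π h' = hh) (m : M) : h'⁻¹ * m * h' = C.h⁻¹ * m * C.h := by
  obtain ⟨c, hc, rfl⟩ := eq_mul_of_map_eq (C.map_h.trans hh'.symm)
  exact C.conj_central' hc m

theorem conj_eq' {h' : M} (hh' : π h' = hh) (m : M) : h' * m * h'⁻¹ = C.h * m * C.h⁻¹ := by
  obtain ⟨c, hc, rfl⟩ := eq_mul_of_map_eq (C.map_h.trans hh'.symm)
  have cc := C.cen c hc
  calc C.h * c * m * (C.h * c)⁻¹ = C.h * (c * m) * c⁻¹ * C.h⁻¹ := by group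
    _ = C.h * m * C.h⁻¹ := by rw [cc]; group

theorem h_conj_x (i j : Fin 3) (hij : i ≠ j) (u : F4) :
    (C.h)⁻¹ * C.x i j u * C.h = C.x i j (kap i j * u) := by
  set y := C.l (t i j (kap i j * u))
  have ey : π y = t i j (kap i j * u) := C.l_spec _
  rw [C.x_eq hij ey, C.x_eq hij (u := kap i j * u) (y := C.h⁻¹ * y * C.h)
    (C.map_conj hij C.map_h ey)]
  unfold hat
  group

theorem h_conj_x' (i j : Fin 3) (hij : i ≠ j) (u : F4) :
    C.h * C.x i j u * (C.h)⁻¹ = C.x i j (kap j i * u) := by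
  have := C.h_conj_x i j hij (kap j i * u)
  rw [kap_mul i j hij] at this
  rw [← this]; group

theorem x_orbit (i j : Fin 3) (hij : i ≠ j) (u : F4) :
    C.x i j u * (C.h⁻¹ * C.x i j u * C.h) * (C.h * C.x i j u * C.h⁻¹) = 1 := by
  rw [C.h_conj_x i j hij, C.h_conj_x' i j hij, C.x_add i j hij, C.x_add i j hij]
  have : ∀ i j : Fin 3, i ≠ j → ∀ u : F4, u + kap i j * u + kap j i * u = 0 := by decide
  rw [this i j hij u, C.x_zero i j hij]

/-- **Characterisation of the canonical lifts.** -/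
theorem x_uniq {i j : Fin 3} (hij : i ≠ j) {u : F4} {w : M} (hw : π w = t i j u) (hw2 : w * w = 1)
    (hw3 : w * (C.h⁻¹ * w * C.h) * (C.h * w * C.h⁻¹) = 1) : w = C.x i j u := by
  obtain ⟨c, hc, rfl⟩ := eq_mul_of_map_eq ((C.map_x i j hij u).trans hw.symm)
  have cc := C.cen c hc
  have e2 : c * c = 1 := by
    calc c * c = (C.x i j u * C.x i j u) * (c * c) := by rw [C.x_sq i j hij, one_mul]
      _ = C.x i j u * (C.x i j u * c) * c := by group
      _ = C.x i j u * (c * C.x i j u) * c := by rw [cc]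
      _ = C.x i j u * c * (C.x i j u * c) := by group
      _ = 1 := hw2
  have e3 : c * (c * c) = 1 := by
    have o := C.x_orbit i j hij u
    have h1 : C.h⁻¹ * (C.x i j u * c) * C.h = C.h⁻¹ * C.x i j u * C.h * c := by
      calc _ = C.h⁻¹ * C.x i j u * (c * C.h) := by group
        _ = _ := by rw [cc]; group
    have h2 : C.h * (C.x i j u * c) * C.h⁻¹ = C.h * C.x i j u * C.h⁻¹ * c := by
      calc _ = C.h * C.x i j u * (c * C.h⁻¹) := by group
        _ = _ := by rw [cc]; group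
    rw [h1, h2] at hw3
    set A := C.x i j u
    set B := C.h⁻¹ * A * C.h
    set D := C.h * A * C.h⁻¹
    calc c * (c * c) = (A * B * D) * (c * (c * c)) := by rw [o, one_mul]
      _ = A * B * (D * c) * c * c := by group
      _ = A * B * (c * D) * c * c := by rw [cc D]
      _ = A * (B * c) * D * c * c := by group
      _ = A * (c * B) * D * c * c := by rw [cc B]
      _ = A * c * B * (D * c) * c := by group
      _ = A * c * B * (c * D) * c := by rw [cc D]
      _ = A * c * (B * c) * (D * c) := by group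
      _ = 1 := hw3
  rw [e2, mul_one] at e3
  rw [e3, mul_one]

/-- EXACT transport of the canonical lifts under endomorphisms normalising `h` modulo the centre -/
theorem x_map (α : M →* M) (hα : π (α C.h) = hh ∨ π (α C.h) = hh⁻¹) {i j k m : Fin 3} (hij : i ≠ j)
    (hkm : k ≠ m) {u u' : F4} (hx : π (α (C.x i j u)) = t k m u') :
    α (C.x i j u) = C.x k m u' := by
  apply C.x_uniq hkm hx
  · rw [← map_mul, C.x_sq i j hij, map_one]
  · have o := congrArg α (C.x_orbit i j hij u)
    rw [map_one, map_mul, map_mul, map_mul, map_mul, map_mul, map_mul, map_inv] at o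
    rcases hα with e | e
    · rw [C.conj_eq e, C.conj_eq' e] at o
      exact o
    · have e' : π (α C.h)⁻¹ = hh := by rw [map_inv, e, inv_inv]
      have h1 := C.conj_eq e' (α (C.x i j u))
      have h2 := C.conj_eq' e' (α (C.x i j u))
      rw [inv_inv] at h1 h2
      rw [h1, h2] at o
      have hc : Commute (C.h * α (C.x i j u) * C.h⁻¹) (C.h⁻¹ * α (C.x i j u) * C.h) :=
        C.comm_lift hkm (C.map_conj' hkm C.map_h hx) (C.map_conj hkm C.map_h hx)
      rw [mul_assoc, hc.eq, ← mul_assoc] at o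
      exact o

/-- the version for conjugations -/
theorem x_conj (g : M) (hg : (π g)⁻¹ * hh * π g = hh ∨ (π g)⁻¹ * hh * π g = hh⁻¹) {i j k m : Fin 3}
    (hij : i ≠ j) (hkm : k ≠ m) {u u' : F4} (h' : (π g)⁻¹ * t i j u * π g = t k m u') :
    g⁻¹ * C.x i j u * g = C.x k m u' := by
  have := C.x_map (MulAut.conj g⁻¹).toMonoidHom (by
      show π (g⁻¹ * C.h * g⁻¹⁻¹) = _ ∨ π (g⁻¹ * C.h * g⁻¹⁻¹) = _
      rw [inv_inv, map_mul, map_mul, map_inv, C.map_h]; exact hg) hij hkm
    (u := u) (u' := u') (by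
      show π (g⁻¹ * C.x i j u * g⁻¹⁻¹) = _
      rw [inv_inv, map_mul, map_mul, map_inv, C.map_x i j hij, h'])
  simpa using this

/-- the Weyl elements -/
noncomputable def n (i j : Fin 3) : M := C.x i j 1 * C.x j i 1 * C.x i j 1

theorem map_n (i j : Fin 3) (hij : i ≠ j) : π (C.n i j) = nn i j := by
  rw [n, map_mul, map_mul, C.map_x _ _ hij, C.map_x _ _ hij.symm]; rfl

theorem n_conj_x (i j k m : Fin 3) (hij : i ≠ j) (hkm : k ≠ m) (u : F4) :
    (C.n i j)⁻¹ * C.x k m u * C.n i j = C.x (Equiv.swap i j k) (Equiv.swap i j m) u := by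
  apply C.x_conj _ _ hkm (fun e => hkm ((Equiv.swap i j).injective e))
  · rw [C.map_n i j hij, mul_assoc, t_n i j k m u hij hkm, inv_mul_cancel_left]
  · right
    rw [C.map_n i j hij, mul_assoc, inv_mul_eq_iff_eq_mul, eq_mul_inv_iff_mul_eq, hnh i j hij]

omit C in
/-- naturality of the canonical lifts -/
theorem x_nat {M' : Type*} [Group M'] {π' : M' →* PSL3} (C : CE π) (C' : CE π') (φ : M →* M')
    (hφ : ∀ m, π' (φ m) = π m) (i j : Fin 3) (hij : i ≠ j) (u : F4) :
    φ (C.x i j u) = C'.x i j u := by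
  apply C'.x_uniq hij
  · rw [hφ, C.map_x i j hij]
  · rw [← map_mul, C.x_sq i j hij, map_one]
  · have o := congrArg φ (C.x_orbit i j hij u)
    rw [map_one, map_mul, map_mul, map_mul, map_mul, map_mul, map_mul, map_inv] at o
    have e : π' (φ C.h) = hh := by rw [hφ, C.map_h]
    rw [C'.conj_eq e, C'.conj_eq' e] at o
    exact o

end CE

end Cfsg.Agent.OddHalf.D9.L34Mult
end

-- part: OddHalf/D9/L34Mult/Comm
section
/-!
# Commutators of the canonical lifts
-/

set_option autoImplicit false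
set_option linter.constructorNameAsVariable false
set_option linter.unusedVariables false
set_option linter.unusedSectionVars false

namespace Cfsg.Agent.OddHalf.D9.L34Mult.CE

open Cfsg.Agent.SporadicA.FieldFour
open Cfsg.Agent.ONType.Psl
open Cfsg.Agent.ONType.Comm

variable {M : Type*} [Group M] {π : M →* PSL3} (C : CE π)
include C

/-- every permutation of the indices is induced by an element -/
theorem exists_perm (σ : Equiv.Perm (Fin 3)) :
    ∃ m : M, ∀ i j : Fin 3, i ≠ j → ∀ u : F4, m⁻¹ * C.x i j u * m = C.x (σ i) (σ j) u := by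
  induction σ using Equiv.Perm.swap_induction_on with
  | one => exact ⟨1, fun i j _ u => by simp⟩
  | swap_mul f a b hab ih =>
    obtain ⟨m, hm⟩ := ih
    refine ⟨m * C.n a b, fun i j hij u => ?_⟩
    have h1 := hm i j hij u
    have h2 := C.n_conj_x a b (f i) (f j) hab (fun e => hij (f.injective e)) u
    calc (m * C.n a b)⁻¹ * C.x i j u * (m * C.n a b)
        = (C.n a b)⁻¹ * (m⁻¹ * C.x i j u * m) * C.n a b := by group
      _ = C.x (Equiv.swap a b (f i)) (Equiv.swap a b (f j)) u := by rw [h1, h2]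
      _ = _ := rfl

omit C in
theorem exists_sigma (i j k : Fin 3) (h1 : i ≠ j) (h2 : i ≠ k) (h3 : j ≠ k) :
    ∃ σ : Equiv.Perm (Fin 3), σ 0 = i ∧ σ 1 = j ∧ σ 2 = k := by
  revert i j k; decide

/-- row commutator -/
noncomputable def F (u v : F4) : M := cm (C.x 0 1 u) (C.x 0 2 v)
/-- column commutator -/
noncomputable def F' (u v : F4) : M := cm (C.x 0 2 u) (C.x 1 2 v)
/-- central part of the Chevalley commutator -/
noncomputable def K (u v : F4) : M := (C.x 0 2 (u * v))⁻¹ * cm (C.x 0 1 u) (C.x 1 2 v)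

theorem map_cm_row (i j k : Fin 3) (h1 : i ≠ j) (h2 : i ≠ k) (u v : F4) :
    π (cm (C.x i j u) (C.x i k v)) = 1 := by
  unfold cm
  simp only [map_mul, map_inv, C.map_x i j h1, C.map_x i k h2]
  rw [mul_assoc, t_row i j k u v h1 h2]; group

theorem map_cm_col (i j k : Fin 3) (h1 : i ≠ j) (h2 : k ≠ j) (u v : F4) :
    π (cm (C.x i j u) (C.x k j v)) = 1 := by
  unfold cm
  simp only [map_mul, map_inv, C.map_x i j h1, C.map_x k j h2]
  rw [mul_assoc, t_col i j k u v h1 h2]; group

theorem map_cm_sum (i j k : Fin 3) (h1 : i ≠ j) (h2 : i ≠ k) (h3 : j ≠ k) (u v : F4) :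
    π (cm (C.x i k u) (C.x k j v)) = t i j (u * v) := by
  unfold cm
  simp only [map_mul, map_inv, C.map_x i k h2, C.map_x k j h3.symm]
  rw [mul_assoc, t_sum i j k u v h1 h2 h3]; group

theorem F_map (u v : F4) : π (C.F u v) = 1 := C.map_cm_row 0 1 2 (by decide) (by decide) u v
theorem F'_map (u v : F4) : π (C.F' u v) = 1 := C.map_cm_col 0 2 1 (by decide) (by decide) u v
theorem K_map (u v : F4) : π (C.K u v) = 1 := by
  rw [K, map_mul, map_inv, C.map_x 0 2 (by decide),
    C.map_cm_sum 0 2 1 (by decide) (by decide) (by decide), inv_mul_cancel]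

theorem F_cen (u v : F4) (m : M) : C.F u v * m = m * C.F u v := C.cen _ (C.F_map u v) m
theorem F'_cen (u v : F4) (m : M) : C.F' u v * m = m * C.F' u v := C.cen _ (C.F'_map u v) m
theorem K_cen (u v : F4) (m : M) : C.K u v * m = m * C.K u v := C.cen _ (C.K_map u v) m

theorem cm_row (i j k : Fin 3) (h1 : i ≠ j) (h2 : i ≠ k) (h3 : j ≠ k) (u v : F4) :
    cm (C.x i j u) (C.x i k v) = C.F u v := by
  obtain ⟨σ, s0, s1, s2⟩ := exists_sigma i j k h1 h2 h3
  obtain ⟨m, hm⟩ := C.exists_perm σ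
  have e1 := hm 0 1 (by decide) u
  have e2 := hm 0 2 (by decide) v
  rw [s0, s1] at e1; rw [s0, s2] at e2
  rw [← e1, ← e2, ← cm_conj]
  exact conj_central (C.F_cen u v) m

theorem cm_col (i j k : Fin 3) (h1 : i ≠ j) (h2 : i ≠ k) (h3 : j ≠ k) (u v : F4) :
    cm (C.x i j u) (C.x k j v) = C.F' u v := by
  obtain ⟨σ, s0, s1, s2⟩ := exists_sigma i k j h2 h1 h3.symm
  obtain ⟨m, hm⟩ := C.exists_perm σ
  have e1 := hm 0 2 (by decide) u
  have e2 := hm 1 2 (by decide) v
  rw [s0, s2] at e1; rw [s1, s2] at e2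
  rw [← e1, ← e2, ← cm_conj]
  exact conj_central (C.F'_cen u v) m

theorem cm_sum (i j k : Fin 3) (h1 : i ≠ j) (h2 : i ≠ k) (h3 : j ≠ k) (u v : F4) :
    cm (C.x i k u) (C.x k j v) = C.x i j (u * v) * C.K u v := by
  obtain ⟨σ, s0, s1, s2⟩ := exists_sigma i k j h2 h1 h3.symm
  obtain ⟨m, hm⟩ := C.exists_perm σ
  have e1 := hm 0 1 (by decide) u
  have e2 := hm 1 2 (by decide) v
  have e3 := hm 0 2 (by decide) (u * v)
  rw [s0, s1] at e1; rw [s1, s2] at e2; rw [s0, s2] at e3
  rw [← e1, ← e2, ← e3, ← cm_conj]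
  have : cm (C.x 0 1 u) (C.x 1 2 v) = C.x 0 2 (u * v) * C.K u v := by unfold K; group
  rw [this]
  have h := conj_central (C.K_cen u v) m
  calc m⁻¹ * (C.x 0 2 (u * v) * C.K u v) * m
      = (m⁻¹ * C.x 0 2 (u * v) * m) * (m⁻¹ * C.K u v * m) := by group
    _ = _ := by rw [h]

/-! ### additivity -/

theorem F_add_left (u u' v : F4) : C.F (u + u') v = C.F u v * C.F u' v := by
  show cm _ _ = _
  rw [← C.x_add 0 1 (by decide), cm_mul_left]
  show (C.x 0 1 u')⁻¹ * C.F u v * C.x 0 1 u' * C.F u' v = _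
  rw [conj_central (C.F_cen u v)]

theorem F_add_right (u v v' : F4) : C.F u (v + v') = C.F u v * C.F u v' := by
  show cm _ _ = _
  rw [← C.x_add 0 2 (by decide), cm_mul_right]
  show C.F u v' * ((C.x 0 2 v')⁻¹ * C.F u v * C.x 0 2 v') = _
  rw [conj_central (C.F_cen u v), C.F_cen]

theorem F'_add_left (u u' v : F4) : C.F' (u + u') v = C.F' u v * C.F' u' v := by
  show cm _ _ = _
  rw [← C.x_add 0 2 (by decide), cm_mul_left]
  show (C.x 0 2 u')⁻¹ * C.F' u v * C.x 0 2 u' * C.F' u' v = _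
  rw [conj_central (C.F'_cen u v)]

theorem F'_add_right (u v v' : F4) : C.F' u (v + v') = C.F' u v * C.F' u v' := by
  show cm _ _ = _
  rw [← C.x_add 1 2 (by decide), cm_mul_right]
  show C.F' u v' * ((C.x 1 2 v')⁻¹ * C.F' u v * C.x 1 2 v') = _
  rw [conj_central (C.F'_cen u v), C.F'_cen]

theorem F_zero_left (v : F4) : C.F 0 v = 1 := by
  show cm _ _ = _
  rw [C.x_zero 0 1 (by decide), cm_one_left]

theorem F_zero_right (v : F4) : C.F v 0 = 1 := by
  show cm _ _ = _
  rw [C.x_zero 0 2 (by decide), cm_one_right]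

theorem F'_zero_left (v : F4) : C.F' 0 v = 1 := by
  show cm _ _ = _
  rw [C.x_zero 0 2 (by decide), cm_one_left]

theorem F'_zero_right (v : F4) : C.F' v 0 = 1 := by
  show cm _ _ = _
  rw [C.x_zero 1 2 (by decide), cm_one_right]

omit C in
theorem add_self (u : F4) : u + u = 0 := by revert u; decide

theorem F_sq (u v : F4) : C.F u v * C.F u v = 1 := by
  rw [← C.F_add_left, add_self, C.F_zero_left]

theorem F'_sq (u v : F4) : C.F' u v * C.F' u v = 1 := by
  rw [← C.F'_add_left, add_self, C.F'_zero_left]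

/-! ### invariance under the torus -/

theorem F_h (u v : F4) : C.F (ω * u) (ω2 * v) = C.F u v := by
  have e1 := C.h_conj_x 0 1 (by decide) u
  have e2 := C.h_conj_x 0 2 (by decide) v
  have k1 : kap 0 1 = ω := by decide
  have k2 : kap 0 2 = ω2 := by decide
  rw [k1] at e1; rw [k2] at e2
  show cm _ _ = _
  rw [← e1, ← e2, ← cm_conj]
  exact conj_central (C.F_cen u v) _

theorem F'_h (u v : F4) : C.F' (ω2 * u) (ω * v) = C.F' u v := by
  have e1 := C.h_conj_x 0 2 (by decide) u
  have e2 := C.h_conj_x 1 2 (by decide) v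
  have k1 : kap 0 2 = ω2 := by decide
  have k2 : kap 1 2 = ω := by decide
  rw [k1] at e1; rw [k2] at e2
  show cm _ _ = _
  rw [← e1, ← e2, ← cm_conj]
  exact conj_central (C.F'_cen u v) _

theorem K_h (u v : F4) : C.K (ω * u) (ω * v) = C.K u v := by
  have e1 := C.h_conj_x 0 1 (by decide) u
  have e2 := C.h_conj_x 1 2 (by decide) v
  have e3 := C.h_conj_x 0 2 (by decide) (u * v)
  have k1 : kap 0 1 = ω := by decide
  have k2 : kap 1 2 = ω := by decide
  have k3 : kap 0 2 = ω2 := by decide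
  rw [k1] at e1; rw [k2] at e2; rw [k3] at e3
  have h4 : ω * u * (ω * v) = ω2 * (u * v) := by
    have : ∀ u v : F4, ω * u * (ω * v) = ω2 * (u * v) := by decide
    exact this u v
  unfold K
  rw [h4, ← e1, ← e2, ← e3, ← cm_conj]
  have h5 : (C.h)⁻¹ * C.K u v * C.h = C.K u v := conj_central (C.K_cen u v) _
  unfold K at h5
  rw [← h5]; group

/-- the row form -/
noncomputable def f (s : F4) : M := C.F 1 s
/-- the column form -/
noncomputable def f' (s : F4) : M := C.F' 1 s
/-- the quadratic function -/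
noncomputable def g (s : F4) : M := C.K s 1

theorem F_eq (u v : F4) : C.F u v = C.f (u * v) := by
  unfold f
  have key : ∀ a b c d : F4, C.F (ω * a) (ω2 * b) = C.F a b := fun a b _ _ => C.F_h a b
  cases u
  · have h0 : (F4.z : F4) = 0 := rfl
    rw [h0, zero_mul, C.F_zero_left, C.F_zero_right]
  · have h0 : (F4.o : F4) = 1 := rfl
    rw [h0, one_mul]
  · have := C.F_h 1 (ω * v)
    have e1 : ω2 * (ω * v) = v := by
      have : ∀ v : F4, ω2 * (ω * v) = v := by decide
      exact this v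
    rw [e1, mul_one] at this
    exact this
  · have h1 := C.F_h ω (ω * v)
    have e1 : ω2 * (ω * v) = v := by
      have : ∀ v : F4, ω2 * (ω * v) = v := by decide
      exact this v
    have e2 : ω * ω = F4.v := by decide
    rw [e1, e2] at h1
    have h2 := C.F_h 1 (ω * (ω * v))
    have e3 : ω2 * (ω * (ω * v)) = ω * v := by
      have : ∀ v : F4, ω2 * (ω * (ω * v)) = ω * v := by decide
      exact this v
    rw [e3, mul_one] at h2
    have e4 : F4.v * v = ω * (ω * v) := by
      have : ∀ v : F4, F4.v * v = ω * (ω * v) := by decide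
      exact this v
    rw [h1, h2, e4]

theorem F'_eq (u v : F4) : C.F' u v = C.f' (u * v) := by
  unfold f'
  cases u
  · have h0 : (F4.z : F4) = 0 := rfl
    rw [h0, zero_mul, C.F'_zero_left, C.F'_zero_right]
  · have h0 : (F4.o : F4) = 1 := rfl
    rw [h0, one_mul]
  · have h1 := C.F'_h ω2 (ω2 * v)
    have e1 : ω * (ω2 * v) = v := by
      have : ∀ v : F4, ω * (ω2 * v) = v := by decide
      exact this v
    have e2 : ω2 * ω2 = F4.w := by decide
    rw [e1, e2] at h1
    have h2 := C.F'_h 1 (ω2 * (ω2 * v))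
    have e3 : ω * (ω2 * (ω2 * v)) = ω2 * v := by
      have : ∀ v : F4, ω * (ω2 * (ω2 * v)) = ω2 * v := by decide
      exact this v
    rw [e3, mul_one] at h2
    have e4 : F4.w * v = ω2 * (ω2 * v) := by
      have : ∀ v : F4, F4.w * v = ω2 * (ω2 * v) := by decide
      exact this v
    rw [h1, h2, e4]
  · have := C.F'_h 1 (ω2 * v)
    have e1 : ω * (ω2 * v) = v := by
      have : ∀ v : F4, ω * (ω2 * v) = v := by decide
      exact this v
    rw [e1, mul_one] at this
    exact this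

theorem K_eq (u v : F4) : C.K u v = C.g (u * (v * v)) := by
  unfold g
  cases v
  · have h0 : (F4.z : F4) = 0 := rfl
    rw [h0, zero_mul, mul_zero]
    unfold K
    rw [C.x_zero 1 2 (by decide), zero_mul, C.x_zero 0 1 (by decide), cm_one_left, cm_one_right,
      mul_zero]
  · have h0 : (F4.o : F4) = 1 := rfl
    rw [h0, one_mul, mul_one]
  · have h1 := C.K_h (ω2 * u) 1
    have e1 : ω * (ω2 * u) = u := by
      have : ∀ v : F4, ω * (ω2 * v) = v := by decide
      exact this u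
    rw [e1, mul_one] at h1
    have e4 : u * (F4.w * F4.w) = ω2 * u := by
      have : ∀ v : F4, v * (F4.w * F4.w) = ω2 * v := by decide
      exact this u
    rw [h1, e4]
  · have h1 := C.K_h (ω2 * u) ω
    have e1 : ω * (ω2 * u) = u := by
      have : ∀ v : F4, ω * (ω2 * v) = v := by decide
      exact this u
    have e2 : ω * ω = F4.v := by decide
    rw [e1, e2] at h1
    have h2 := C.K_h (ω * u) 1
    have e3 : ω * (ω * u) = ω2 * u := by
      have : ∀ v : F4, ω * (ω * v) = ω2 * v := by decide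
      exact this u
    rw [e3, mul_one] at h2
    have e4 : u * (F4.v * F4.v) = ω * u := by
      have : ∀ v : F4, v * (F4.v * F4.v) = ω * v := by decide
      exact this u
    rw [h1, h2, e4]

theorem f_add (s s' : F4) : C.f (s + s') = C.f s * C.f s' := C.F_add_right 1 s s'
theorem f'_add (s s' : F4) : C.f' (s + s') = C.f' s * C.f' s' := C.F'_add_right 1 s s'
theorem f_zero : C.f 0 = 1 := C.F_zero_right 1
theorem f'_zero : C.f' 0 = 1 := C.F'_zero_right 1
theorem f_sq (s : F4) : C.f s * C.f s = 1 := C.F_sq 1 s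
theorem f'_sq (s : F4) : C.f' s * C.f' s = 1 := C.F'_sq 1 s
theorem f_cen (s : F4) (m : M) : C.f s * m = m * C.f s := C.F_cen 1 s m
theorem f'_cen (s : F4) (m : M) : C.f' s * m = m * C.f' s := C.F'_cen 1 s m
theorem g_cen (s : F4) (m : M) : C.g s * m = m * C.g s := C.K_cen s 1 m
theorem f_map (s : F4) : π (C.f s) = 1 := C.F_map 1 s
theorem g_map (s : F4) : π (C.g s) = 1 := C.K_map s 1

theorem g_zero : C.g 0 = 1 := by
  show C.K 0 1 = 1
  unfold K
  rw [C.x_zero 0 1 (by decide), cm_one_left, zero_mul, C.x_zero 0 2 (by decide)]; group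

theorem K_add_left (u u' v : F4) : C.K (u + u') v = C.K u v * C.K u' v * C.F u' (u * v) := by
  have h1 : cm (C.x 0 1 (u + u')) (C.x 1 2 v) = C.x 0 2 ((u + u') * v) * C.K (u + u') v :=
    C.cm_sum 0 2 1 (by decide) (by decide) (by decide) _ _
  have h2 : cm (C.x 0 1 u) (C.x 1 2 v) = C.x 0 2 (u * v) * C.K u v :=
    C.cm_sum 0 2 1 (by decide) (by decide) (by decide) _ _
  have h3 : cm (C.x 0 1 u') (C.x 1 2 v) = C.x 0 2 (u' * v) * C.K u' v :=
    C.cm_sum 0 2 1 (by decide) (by decide) (by decide) _ _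
  rw [← C.x_add 0 1 (by decide), cm_mul_left, h2, h3] at h1
  have h4 : (C.x 0 1 u')⁻¹ * C.x 0 2 (u * v) * C.x 0 1 u' = C.x 0 2 (u * v) * C.F u' (u * v) := by
    have := C.cm_row 0 1 2 (by decide) (by decide) (by decide) u' (u * v)
    have hs := C.F_sq u' (u * v)
    have hi : C.F u' (u * v) = (C.F u' (u * v))⁻¹ := by
      rw [eq_comm]; exact inv_eq_of_mul_eq_one_left hs
    rw [hi, ← this, cm_inv]
    unfold cm; group
  have h5 : (C.x 0 1 u')⁻¹ * (C.x 0 2 (u * v) * C.K u v) * C.x 0 1 u' =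
      C.x 0 2 (u * v) * C.F u' (u * v) * C.K u v := by
    calc _ = (C.x 0 1 u')⁻¹ * C.x 0 2 (u * v) * (C.K u v * C.x 0 1 u') := by group
      _ = (C.x 0 1 u')⁻¹ * C.x 0 2 (u * v) * (C.x 0 1 u' * C.K u v) := by rw [C.K_cen]
      _ = ((C.x 0 1 u')⁻¹ * C.x 0 2 (u * v) * C.x 0 1 u') * C.K u v := by group
      _ = _ := by rw [h4]
  rw [h5, add_mul, ← C.x_add 0 2 (by decide)] at h1
  have h6 : C.x 0 2 (u * v) * C.F u' (u * v) * C.K u v * (C.x 0 2 (u' * v) * C.K u' v) =
      C.x 0 2 (u * v) * C.x 0 2 (u' * v) * (C.K u v * C.K u' v * C.F u' (u * v)) := by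
    calc _ = C.x 0 2 (u * v) * (C.F u' (u * v) * (C.K u v * C.x 0 2 (u' * v)) * C.K u' v) := by group
      _ = C.x 0 2 (u * v) * (C.F u' (u * v) * C.x 0 2 (u' * v) * (C.K u v * C.K u' v)) := by
          rw [C.K_cen]; group
      _ = C.x 0 2 (u * v) * (C.x 0 2 (u' * v) * (C.F u' (u * v) * (C.K u v * C.K u' v))) := by
          rw [C.F_cen]; group
      _ = C.x 0 2 (u * v) * (C.x 0 2 (u' * v) * ((C.K u v * C.K u' v) * C.F u' (u * v))) := by
          rw [C.F_cen u' (u * v) (C.K u v * C.K u' v)]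
      _ = _ := by group
  rw [h6] at h1
  exact (mul_left_cancel h1).symm

theorem g_add (s s' : F4) : C.g (s + s') = C.g s * C.g s' * C.f (s * s') := by
  have h := C.K_add_left s s' 1
  rw [mul_one, C.F_eq, mul_comm s' s] at h
  exact h

theorem K_add_right (u v v' : F4) : C.K u (v + v') = C.K u v * C.K u v' * C.F' (u * v) v' := by
  have h1 : cm (C.x 0 1 u) (C.x 1 2 (v + v')) = C.x 0 2 (u * (v + v')) * C.K u (v + v') :=
    C.cm_sum 0 2 1 (by decide) (by decide) (by decide) _ _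
  have h2 : cm (C.x 0 1 u) (C.x 1 2 v) = C.x 0 2 (u * v) * C.K u v :=
    C.cm_sum 0 2 1 (by decide) (by decide) (by decide) _ _
  have h3 : cm (C.x 0 1 u) (C.x 1 2 v') = C.x 0 2 (u * v') * C.K u v' :=
    C.cm_sum 0 2 1 (by decide) (by decide) (by decide) _ _
  rw [← C.x_add 1 2 (by decide), cm_mul_right, h2, h3] at h1
  have h4 : (C.x 1 2 v')⁻¹ * C.x 0 2 (u * v) * C.x 1 2 v' = C.x 0 2 (u * v) * C.F' (u * v) v' := by
    show _ = C.x 0 2 (u * v) * cm _ _
    unfold cm; group
  have h5 : (C.x 1 2 v')⁻¹ * (C.x 0 2 (u * v) * C.K u v) * C.x 1 2 v' =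
      C.x 0 2 (u * v) * C.F' (u * v) v' * C.K u v := by
    calc _ = (C.x 1 2 v')⁻¹ * C.x 0 2 (u * v) * (C.K u v * C.x 1 2 v') := by group
      _ = (C.x 1 2 v')⁻¹ * C.x 0 2 (u * v) * (C.x 1 2 v' * C.K u v) := by rw [C.K_cen]
      _ = ((C.x 1 2 v')⁻¹ * C.x 0 2 (u * v) * C.x 1 2 v') * C.K u v := by group
      _ = _ := by rw [h4]
  rw [h5, mul_add, ← C.x_add 0 2 (by decide)] at h1
  have hx : C.x 0 2 (u * v) * C.x 0 2 (u * v') = C.x 0 2 (u * v') * C.x 0 2 (u * v) := by
    rw [C.x_add 0 2 (by decide), C.x_add 0 2 (by decide), add_comm]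
  have h6 : C.x 0 2 (u * v') * C.K u v' * (C.x 0 2 (u * v) * C.F' (u * v) v' * C.K u v) =
      C.x 0 2 (u * v) * C.x 0 2 (u * v') * (C.K u v * C.K u v' * C.F' (u * v) v') := by
    rw [hx]
    calc _ = C.x 0 2 (u * v') * (C.K u v' * (C.x 0 2 (u * v) * (C.F' (u * v) v' * C.K u v))) := by
            group
      _ = C.x 0 2 (u * v') * (C.x 0 2 (u * v) * (C.F' (u * v) v' * (C.K u v * C.K u v'))) := by
          rw [C.K_cen u v']; group
      _ = C.x 0 2 (u * v') * (C.x 0 2 (u * v) * ((C.K u v * C.K u v') * C.F' (u * v) v')) := by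
          rw [C.F'_cen (u * v) v' (C.K u v * C.K u v')]
      _ = _ := by group
  rw [h6] at h1
  exact (mul_left_cancel h1).symm

theorem f'_eq (s : F4) : C.f' s = C.f (s * s) := by
  have h := C.K_add_right 1 s 1
  simp only [one_mul, C.K_eq, C.F'_eq, mul_one] at h
  have e : (s + 1) * (s + 1) = s * s + 1 := by
    have : ∀ s : F4, (s + 1) * (s + 1) = s * s + 1 := by decide
    exact this s
  rw [e, C.g_add, mul_one] at h
  exact (mul_left_cancel h).symm

theorem g_sq (s : F4) : C.g s * C.g s = C.f (s * s) := by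
  have h := C.g_add s s
  rw [add_self, C.g_zero] at h
  have h2 := C.f_sq (s * s)
  calc C.g s * C.g s = C.g s * C.g s * C.f (s * s) * C.f (s * s) := by
        rw [mul_assoc (C.g s * C.g s), h2, mul_one]
    _ = C.f (s * s) := by rw [← h, one_mul]

/-- the relations between the canonical lifts -/
theorem rel_row (i j k : Fin 3) (h1 : i ≠ j) (h2 : i ≠ k) (h3 : j ≠ k) (u v : F4) :
    C.x i j u * C.x i k v = C.x i k v * C.x i j u * C.f (u * v) := by
  rw [← C.F_eq, ← C.cm_row i j k h1 h2 h3]; exact cm_spec _ _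

theorem rel_col (i j k : Fin 3) (h1 : i ≠ j) (h2 : i ≠ k) (h3 : j ≠ k) (u v : F4) :
    C.x i j u * C.x k j v = C.x k j v * C.x i j u * C.f (u * u * (v * v)) := by
  have e : u * u * (v * v) = u * v * (u * v) := by ring
  rw [e, ← C.f'_eq, ← C.F'_eq, ← C.cm_col i j k h1 h2 h3]; exact cm_spec _ _

theorem rel_sum (i j k : Fin 3) (h1 : i ≠ j) (h2 : i ≠ k) (h3 : j ≠ k) (u v : F4) :
    C.x i k u * C.x k j v = C.x k j v * C.x i k u * (C.x i j (u * v) * C.g (u * (v * v))) := by
  rw [← C.K_eq, ← C.cm_sum i j k h1 h2 h3]; exact cm_spec _ _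

end Cfsg.Agent.OddHalf.D9.L34Mult.CE
end

-- part: OddHalf/D9/L34Mult/Kernel
section
/-!
# The kernel of a perfect central 2-extension of `PSL(3,4)` is generated by the values of `g`
-/

set_option autoImplicit false
set_option linter.constructorNameAsVariable false
set_option linter.unusedVariables false
set_option linter.unusedSectionVars false

namespace Cfsg.Agent.OddHalf.D9.L34Mult.CE

open Cfsg.Agent.SporadicA.FieldFour
open Cfsg.Agent.ONType.Psl
open Cfsg.Agent.ONType.PslCard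
open Cfsg.Agent.ONType.Comm

variable {M : Type*} [Group M] {π : M →* PSL3} (C : CE π)
include C

theorem mul_swap (hf : ∀ s, C.f s = 1) (b a : F4) :
    C.x 1 2 b * C.x 0 1 a = C.x 0 1 a * C.x 1 2 b * C.x 0 2 (a * b) * (C.g (a * (b * b)))⁻¹ := by
  have h := C.rel_sum 0 2 1 (by decide) (by decide) (by decide) a b
  have h2 := C.rel_row 0 2 1 (by decide) (by decide) (by decide) (a * b) a
  have h3 := C.rel_col 0 2 1 (by decide) (by decide) (by decide) (a * b) b
  rw [hf, mul_one] at h2 h3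
  have hi := C.x_inv 0 2 (by decide) (a * b)
  have hg := C.g_cen (a * (b * b))
  rw [h]
  calc C.x 1 2 b * C.x 0 1 a = C.x 1 2 b * C.x 0 1 a * (C.x 0 2 (a * b) * (C.x 0 2 (a * b))⁻¹) *
        (C.g (a * (b * b)) * (C.g (a * (b * b)))⁻¹) := by group
    _ = C.x 1 2 b * C.x 0 1 a * (C.x 0 2 (a * b) * ((C.x 0 2 (a * b))⁻¹ *
        C.g (a * (b * b))) * (C.g (a * (b * b)))⁻¹) := by group
    _ = C.x 1 2 b * C.x 0 1 a * (C.x 0 2 (a * b) * (C.g (a * (b * b)) * C.x 0 2 (a * b)) *
        (C.g (a * (b * b)))⁻¹) := by rw [← hg, hi]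
    _ = _ := by group

/-- normal form product -/
noncomputable def nf (a b c : F4) (k : M) : M := C.x 0 1 a * C.x 1 2 b * C.x 0 2 c * k

theorem map_nf (a b c : F4) (k : M) (hk : π k = 1) :
    π (C.nf a b c k) = t 0 1 a * t 1 2 b * t 0 2 c := by
  unfold nf
  rw [map_mul, map_mul, map_mul, C.map_x 0 1 (by decide), C.map_x 1 2 (by decide),
    C.map_x 0 2 (by decide), hk, mul_one]

theorem nf_mul (hf : ∀ s, C.f s = 1) (a b c a' b' c' : F4) (k k' : M) (hk : π k = 1)
    (hk' : π k' = 1) : C.nf a b c k * C.nf a' b' c' k' =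
      C.nf (a + a') (b + b') (a' * b + c + c') (k * k' * (C.g (a' * (b * b)))⁻¹) := by
  have h2 := C.rel_row 0 2 1 (by decide) (by decide) (by decide) c a'
  have h3 := C.rel_col 0 2 1 (by decide) (by decide) (by decide) c b'
  have h3' := C.rel_col 0 2 1 (by decide) (by decide) (by decide) (a' * b) b'
  rw [hf, mul_one] at h2 h3 h3'
  have ck := C.cen k hk
  have ck' := C.cen k' hk'
  have cg : ∀ m : M, (C.g (a' * (b * b)))⁻¹ * m = m * (C.g (a' * (b * b)))⁻¹ := by
    intro m
    exact C.cen _ (by rw [map_inv, C.g_map, inv_one]) m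
  unfold nf
  calc C.x 0 1 a * C.x 1 2 b * C.x 0 2 c * k * (C.x 0 1 a' * C.x 1 2 b' * C.x 0 2 c' * k')
      = C.x 0 1 a * C.x 1 2 b * C.x 0 2 c * (k * (C.x 0 1 a' * C.x 1 2 b' * C.x 0 2 c')) * k' := by
        group
    _ = C.x 0 1 a * C.x 1 2 b * (C.x 0 2 c * C.x 0 1 a') * C.x 1 2 b' * C.x 0 2 c' * (k * k') := by
        rw [ck]; group
    _ = C.x 0 1 a * C.x 1 2 b * C.x 0 1 a' * (C.x 0 2 c * C.x 1 2 b') * C.x 0 2 c' * (k * k') := by
        rw [h2]; group
    _ = C.x 0 1 a * (C.x 1 2 b * C.x 0 1 a') * C.x 1 2 b' * (C.x 0 2 c * C.x 0 2 c') * (k * k') := by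
        rw [h3]; group
    _ = C.x 0 1 a * (C.x 0 1 a' * C.x 1 2 b * C.x 0 2 (a' * b)) *
        ((C.g (a' * (b * b)))⁻¹ * (C.x 1 2 b' * (C.x 0 2 c * C.x 0 2 c') * (k * k'))) := by
        rw [C.mul_swap hf]; group
    _ = (C.x 0 1 a * C.x 0 1 a') * C.x 1 2 b * (C.x 0 2 (a' * b) * C.x 1 2 b') *
        (C.x 0 2 c * C.x 0 2 c') * (k * k') * (C.g (a' * (b * b)))⁻¹ := by
        rw [cg]; group
    _ = (C.x 0 1 a * C.x 0 1 a') * (C.x 1 2 b * C.x 1 2 b') * (C.x 0 2 (a' * b) *
        (C.x 0 2 c * C.x 0 2 c')) * (k * k' * (C.g (a' * (b * b)))⁻¹) := by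
        rw [h3']; group
    _ = _ := by
        rw [C.x_add 0 1 (by decide), C.x_add 1 2 (by decide), C.x_add 0 2 (by decide),
          C.x_add 0 2 (by decide), add_assoc (a' * b)]

theorem nf_inv (hf : ∀ s, C.f s = 1) (a b c : F4) (k : M) (hk : π k = 1) :
    (C.nf a b c k)⁻¹ = C.nf a b (a * b + c) (k⁻¹ * C.g (a * (b * b))) := by
  apply inv_eq_of_mul_eq_one_right
  have hk2 : π (k⁻¹ * C.g (a * (b * b))) = 1 := by
    rw [map_mul, map_inv, hk, C.g_map, inv_one, one_mul]
  rw [C.nf_mul hf _ _ _ _ _ _ _ _ hk hk2]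
  have e1 : a + a = 0 := add_self a
  have e2 : b + b = 0 := add_self b
  have e3 : a * b + c + (a * b + c) = 0 := add_self _
  rw [e1, e2, e3]
  unfold nf
  rw [C.x_zero 0 1 (by decide), C.x_zero 1 2 (by decide), C.x_zero 0 2 (by decide)]
  group

theorem nf_inj {a b c a' b' c' : F4} {k k' : M} (hk : π k = 1) (hk' : π k' = 1)
    (h : C.nf a b c k = C.nf a' b' c' k') : a = a' ∧ b = b' ∧ c = c' ∧ k = k' := by
  have h1 := congrArg π h
  rw [C.map_nf _ _ _ _ hk, C.map_nf _ _ _ _ hk'] at h1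
  obtain ⟨ea, eb, ec⟩ := t_inj h1
  subst ea eb ec
  exact ⟨rfl, rfl, rfl, mul_left_cancel h⟩

/-- the subgroup of the unitriangular elements times a central subgroup -/
noncomputable def W (hf : ∀ s, C.f s = 1) (A : Subgroup M) (hA : A ≤ π.ker) (hg : ∀ s, C.g s ∈ A) :
    Subgroup M where
  carrier := {m | ∃ (a b c : F4) (k : M), k ∈ A ∧ m = C.nf a b c k}
  mul_mem' := by
    rintro _ _ ⟨a, b, c, k, hk, rfl⟩ ⟨a', b', c', k', hk', rfl⟩
    refine ⟨_, _, _, _, ?_, C.nf_mul hf _ _ _ _ _ _ _ _ (hA hk) (hA hk')⟩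
    exact A.mul_mem (A.mul_mem hk hk') (A.inv_mem (hg _))
  one_mem' := by
    refine ⟨0, 0, 0, 1, A.one_mem, ?_⟩
    unfold nf
    rw [C.x_zero 0 1 (by decide), C.x_zero 1 2 (by decide), C.x_zero 0 2 (by decide)]
    group
  inv_mem' := by
    rintro _ ⟨a, b, c, k, hk, rfl⟩
    exact ⟨_, _, _, _, A.mul_mem (A.inv_mem hk) (hg _), C.nf_inv hf _ _ _ _ (hA hk)⟩

theorem card_W (hf : ∀ s, C.f s = 1) (A : Subgroup M) (hA : A ≤ π.ker) (hg : ∀ s, C.g s ∈ A) :
    Nat.card (C.W hf A hA hg) = 64 * Nat.card A := by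
  have e : Nat.card (C.W hf A hA hg) = Nat.card (F4 × F4 × F4 × A) := by
    symm
    apply Nat.card_congr
    refine Equiv.ofBijective (fun p => ⟨C.nf p.1 p.2.1 p.2.2.1 p.2.2.2.1,
      ⟨p.1, p.2.1, p.2.2.1, p.2.2.2.1, p.2.2.2.2, rfl⟩⟩) ⟨?_, ?_⟩
    · rintro ⟨a, b, c, k, hk⟩ ⟨a', b', c', k', hk'⟩ h
      have h' := congrArg Subtype.val h
      obtain ⟨h1, h2, h3, h4⟩ := C.nf_inj (hA hk) (hA hk') h'
      simp only [Prod.mk.injEq, Subtype.mk.injEq]
      exact ⟨h1, h2, h3, h4⟩
    · rintro ⟨_, a, b, c, k, hk, rfl⟩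
      exact ⟨⟨a, b, c, k, hk⟩, rfl⟩
  rw [e, Nat.card_prod, Nat.card_prod, Nat.card_prod]
  have : Nat.card F4 = 4 := by rw [Nat.card_eq_fintype_card]; exact F4.card_eq
  rw [this]; ring

theorem card_M : Nat.card M = Nat.card π.ker * 20160 := by
  have h := Subgroup.card_mul_index π.ker
  rw [Subgroup.index_ker, MonoidHom.range_eq_top.mpr C.surj, Subgroup.card_top, card_PSL3] at h
  exact h.symm

/-- a perfect extension with kernel of order two has `g ≠ 1` -/
theorem exists_g_ne_one [Finite M] (hperf : commutator M = ⊤) (hker : Nat.card π.ker = 2) :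
    ∃ s, C.g s ≠ 1 := by
  by_contra hcon
  push Not at hcon
  have hf : ∀ s, C.f s = 1 := by
    intro s
    have h := C.g_sq (s * s)
    rw [hcon, mul_one] at h
    have e : ∀ s : F4, s * s * (s * s) = s := by decide
    rw [e] at h
    exact h.symm
  obtain ⟨z, hz, hz1⟩ : ∃ z : M, π z = 1 ∧ z ≠ 1 := by
    by_contra hno
    push Not at hno
    have : π.ker = ⊥ := by
      rw [eq_bot_iff]
      intro k hk
      exact Subgroup.mem_bot.mpr (hno k hk)
    rw [this] at hker
    simp at hker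
  have hgK : ∀ s, C.g s ∈ π.ker := fun s => C.g_map s
  have hgA : ∀ s, C.g s ∈ (⊥ : Subgroup M) := fun s => Subgroup.mem_bot.mpr (hcon s)
  set P := C.W hf π.ker le_rfl hgK with hP
  set Q := C.W hf ⊥ bot_le hgA with hQ
  have cP : Nat.card P = 128 := by rw [hP, C.card_W, hker]
  have cQ : Nat.card Q = 64 := by rw [hQ, C.card_W, Subgroup.card_bot]
  have hQP : Q ≤ P := by
    rintro _ ⟨a, b, c, k, hk, rfl⟩
    exact ⟨a, b, c, k, (bot_le : (⊥ : Subgroup M) ≤ π.ker) hk, rfl⟩
  have hidx : P.index = 315 := by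
    have h := Subgroup.card_mul_index P
    rw [cP, C.card_M, hker] at h
    omega
  have hrel : (Q.subgroupOf P).index = 2 := by
    have h := Subgroup.card_mul_index (Q.subgroupOf P)
    have h2 : Nat.card (Q.subgroupOf P) = 64 := by
      rw [← cQ]
      exact Nat.card_congr (Subgroup.subgroupOfEquivOfLe hQP).toEquiv
    rw [h2, cP] at h
    omega
  have hzP : z ∈ P := by
    refine ⟨0, 0, 0, z, hz, ?_⟩
    unfold nf
    rw [C.x_zero 0 1 (by decide), C.x_zero 1 2 (by decide), C.x_zero 0 2 (by decide)]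
    group
  have hzc : z ∈ Subgroup.center M := by
    rw [Subgroup.mem_center_iff]
    intro m
    exact (C.cen z hz m).symm
  refine Cfsg.Agent.ONType.Transfer.not_mem_commutator_of_index_two P (by rw [hidx]; decide)
    (Q.subgroupOf P) hrel z hzP hzc ?_ (by rw [hperf]; exact Subgroup.mem_top z)
  intro hmem
  rw [Subgroup.mem_subgroupOf] at hmem
  obtain ⟨a, b, c, k, hk, e⟩ := hmem
  have e0 : C.nf 0 0 0 z = C.nf a b c k := by
    rw [← e]
    unfold nf
    rw [C.x_zero 0 1 (by decide), C.x_zero 1 2 (by decide), C.x_zero 0 2 (by decide)]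
    group
  have hk1 : k = 1 := Subgroup.mem_bot.mp hk
  obtain ⟨-, -, -, h4⟩ := C.nf_inj hz (by rw [hk1, map_one]) e0
  exact hz1 (h4.trans hk1)

omit C in
/-- the extension modulo a central subgroup -/
theorem quot (C : CE π) (B : Subgroup M) [B.Normal] (hB : B ≤ π.ker) :
    CE (QuotientGroup.lift B π hB) := by
  constructor
  · intro p
    obtain ⟨m, hm⟩ := C.surj p
    exact ⟨QuotientGroup.mk m, hm⟩
  · intro k
    obtain ⟨k, rfl⟩ := QuotientGroup.mk_surjective k
    intro hk m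
    obtain ⟨m, rfl⟩ := QuotientGroup.mk_surjective m
    have : π k = 1 := hk
    rw [← QuotientGroup.mk_mul, ← QuotientGroup.mk_mul, C.cen k this m]

/-- naturality of `g` -/
theorem g_nat {M' : Type*} [Group M'] {π' : M' →* PSL3} (C' : CE π') (φ : M →* M')
    (hφ : ∀ m, π' (φ m) = π m) (s : F4) : φ (C.g s) = C'.g s := by
  unfold g K cm
  simp only [map_mul, map_inv]
  rw [x_nat C C' φ hφ 0 1 (by decide), x_nat C C' φ hφ 0 2 (by decide),
    x_nat C C' φ hφ 1 2 (by decide)]

/-- **The kernel is generated by the values of `g`.** -/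
theorem ker_gen [Finite M] (hperf : commutator M = ⊤) (h2 : IsPGroup 2 π.ker) (B : Subgroup M)
    (hg : ∀ s, C.g s ∈ B) : π.ker ≤ B := by
  classical
  by_contra hcon
  -- a maximal subgroup of the kernel containing `B ⊓ ker`
  have hne : B.subgroupOf π.ker ≠ ⊤ := by
    intro h
    exact hcon (Subgroup.subgroupOf_eq_top.mp h)
  obtain ⟨Y, hY, hBY⟩ := (eq_top_or_exists_le_coatom (B.subgroupOf π.ker)).resolve_left hne
  have : Fact (Nat.Prime 2) := ⟨Nat.prime_two⟩
  have hcomm : ∀ a b : π.ker, a * b = b * a := fun a b => Subtype.ext (C.cen a a.2 b)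
  have hYn : Y.Normal := ⟨fun a ha b => by rw [hcomm b a, mul_inv_cancel_right]; exact ha⟩
  have hidx : Y.index = 2 := (Cfsg.Agent.S0014.coatom_normal_index h2 hY).2
  set A : Subgroup M := Y.map π.ker.subtype with hA
  have hAk : A ≤ π.ker := by
    rintro _ ⟨y, _, rfl⟩
    exact y.2
  have hAn : A.Normal := ⟨fun a ha m => by
    have := C.cen a (hAk ha) m
    rw [← this, mul_inv_cancel_right]; exact ha⟩
  have hgA : ∀ s, C.g s ∈ A := by
    intro s
    refine ⟨⟨C.g s, C.g_map s⟩, hBY ?_, rfl⟩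
    exact hg s
  set π' := QuotientGroup.lift A π hAk with hπ'
  have C' : CE π' := quot C A hAk
  have hperf' : commutator (M ⧸ A) = ⊤ := by
    have hs : Function.Surjective (QuotientGroup.mk' A) := QuotientGroup.mk'_surjective A
    rw [commutator_def, ← MonoidHom.range_eq_top.mpr hs, MonoidHom.range_eq_map,
      ← Subgroup.map_commutator, ← commutator_def, hperf]
  have hker' : Nat.card π'.ker = 2 := by
    have h1 := C'.card_M
    have h3 := C.card_M
    have h4 := Subgroup.card_mul_index A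
    have h5 : Nat.card A * 2 = Nat.card π.ker := by
      rw [← hidx, ← Subgroup.card_mul_index Y, hA,
        Subgroup.card_map_of_injective (Subgroup.subtype_injective _)]
    have h6 : Nat.card (M ⧸ A) = A.index := rfl
    have h7 : 0 < Nat.card A := Nat.card_pos
    rw [h6] at h1
    rw [h1, h3, ← h5] at h4
    have h8 : Nat.card A * (Nat.card π'.ker * 20160) = Nat.card A * (2 * 20160) := by
      rw [h4]; ring
    have h9 := Nat.eq_of_mul_eq_mul_left h7 h8
    omega
  obtain ⟨s, hs⟩ := C'.exists_g_ne_one hperf' hker'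
  apply hs
  rw [← C.g_nat C' (QuotientGroup.mk' A) (fun m => rfl)]
  exact (QuotientGroup.eq_one_iff _).mpr (hgA s)

end Cfsg.Agent.OddHalf.D9.L34Mult.CE
end

-- part: OddHalf/D9/L34Mult/Mult
section
/-!
# The 2-part of the Schur multiplier of `PSL(3,4)`

`K` finite perfect, `center K` a 2-group, `K ⧸ center K ≃* PSL(3,4)`: the centre has exponent dividing four
and is generated by two elements.
-/

set_option autoImplicit false
set_option linter.constructorNameAsVariable false
set_option linter.unusedSectionVars false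

namespace Cfsg.Agent.OddHalf.D9.L34Mult

open Subgroup
open Cfsg.Agent.SporadicA.FieldFour
open Cfsg.Agent.ONType.Psl

namespace CE

variable {M : Type*} [Group M] {π : M →* PSL3} (C : CE π)
include C

theorem f_eq_g (s : F4) : C.f s = C.g (s * s) * C.g (s * s) := by
  rw [C.g_sq]
  congr 1
  revert s; decide

theorem g_w2 : C.g ω2 = C.g 1 * C.g ω * C.f ω := by
  have h := C.g_add 1 ω
  have e1 : (1 : F4) + ω = ω2 := by decide
  have e2 : (1 : F4) * ω = ω := by decide
  rw [e1, e2] at h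
  exact h

theorem f_w : C.f ω = C.g 1 * C.g 1 * (C.g ω * C.g ω) := by
  have h1 := C.g_sq 1
  have h2 := C.g_sq ω
  have h3 := C.f_add 1 ω2
  have e1 : (1 : F4) + ω2 = ω := by decide
  have e2 : (1 : F4) * 1 = 1 := by decide
  have e3 : ω * ω = ω2 := by decide
  rw [e2] at h1
  rw [e3] at h2
  rw [e1] at h3
  rw [h1, h2, h3]

/-- `g s` in terms of `g 1`, `g ω` -/
theorem g_mem (s : F4) : C.g s ∈ closure ({C.g 1, C.g ω} : Set M) := by
  have h1 : C.g 1 ∈ closure ({C.g 1, C.g ω} : Set M) := subset_closure (by simp)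
  have hw : C.g ω ∈ closure ({C.g 1, C.g ω} : Set M) := subset_closure (by simp)
  cases s
  · exact C.g_zero ▸ one_mem _
  · exact h1
  · exact hw
  · show C.g ω2 ∈ _
    rw [C.g_w2, C.f_w]
    exact mul_mem (mul_mem h1 hw) (mul_mem (mul_mem h1 h1) (mul_mem hw hw))

theorem g_four (s : F4) : C.g s ^ 4 = 1 := by
  have h1 := C.g_sq s
  have h2 := C.f_sq (s * s)
  calc C.g s ^ 4 = (C.g s * C.g s) * (C.g s * C.g s) := by
        simp only [pow_succ, pow_zero, one_mul, mul_assoc]
    _ = 1 := by rw [h1, h2]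

/-- elements of the kernel -/
theorem ker_form [Finite M] (hperf : commutator M = ⊤) (h2 : IsPGroup 2 π.ker) (k : M)
    (hk : π k = 1) : ∃ a b : ℕ, k = C.g 1 ^ a * C.g ω ^ b := by
  have hc : ∀ (a : ℕ) (m : M), C.g 1 ^ a * m = m * C.g 1 ^ a := fun a m =>
    ((show Commute (C.g 1) m from C.g_cen 1 m).pow_left a).eq
  have hc' : ∀ (a : ℕ) (m : M), C.g ω ^ a * m = m * C.g ω ^ a := fun a m =>
    ((show Commute (C.g ω) m from C.g_cen ω m).pow_left a).eq
  let B : Subgroup M :=
    { carrier := {k | ∃ a b : ℕ, k = C.g 1 ^ a * C.g ω ^ b}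
      mul_mem' := by
        rintro _ _ ⟨a, b, rfl⟩ ⟨a', b', rfl⟩
        refine ⟨a + a', b + b', ?_⟩
        calc C.g 1 ^ a * C.g ω ^ b * (C.g 1 ^ a' * C.g ω ^ b')
            = C.g 1 ^ a * (C.g ω ^ b * C.g 1 ^ a') * C.g ω ^ b' := by group
          _ = C.g 1 ^ a * (C.g 1 ^ a' * C.g ω ^ b) * C.g ω ^ b' := by rw [hc']
          _ = _ := by rw [pow_add, pow_add]; group
      one_mem' := ⟨0, 0, by simp⟩
      inv_mem' := by
        rintro _ ⟨a, b, rfl⟩
        refine ⟨3 * a, 3 * b, ?_⟩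
        apply inv_eq_of_mul_eq_one_right
        have e1 : C.g 1 ^ a * C.g 1 ^ (3 * a) = 1 := by
          rw [← pow_add, show a + 3 * a = 4 * a by ring, pow_mul, C.g_four, one_pow]
        have e2 : C.g ω ^ b * C.g ω ^ (3 * b) = 1 := by
          rw [← pow_add, show b + 3 * b = 4 * b by ring, pow_mul, C.g_four, one_pow]
        calc C.g 1 ^ a * C.g ω ^ b * (C.g 1 ^ (3 * a) * C.g ω ^ (3 * b))
            = C.g 1 ^ a * (C.g ω ^ b * C.g 1 ^ (3 * a)) * C.g ω ^ (3 * b) := by group
          _ = (C.g 1 ^ a * C.g 1 ^ (3 * a)) * (C.g ω ^ b * C.g ω ^ (3 * b)) := by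
              rw [hc']; group
          _ = 1 := by rw [e1, e2, one_mul] }
  have hB : closure ({C.g 1, C.g ω} : Set M) ≤ B := by
    rw [closure_le]
    rintro y (rfl | rfl)
    · exact ⟨1, 0, by simp⟩
    · exact ⟨0, 1, by simp⟩
  exact C.ker_gen hperf h2 B (fun s => hB (C.g_mem s)) hk

theorem ker_four [Finite M] (hperf : commutator M = ⊤) (h2 : IsPGroup 2 π.ker) (k : M)
    (hk : π k = 1) : k ^ 4 = 1 := by
  obtain ⟨a, b, rfl⟩ := C.ker_form hperf h2 k hk
  have hc : Commute (C.g 1 ^ a) (C.g ω ^ b) :=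
    (show Commute (C.g 1) (C.g ω ^ b) from C.g_cen 1 _).pow_left a
  rw [hc.mul_pow, ← pow_mul, ← pow_mul, mul_comm a, mul_comm b, pow_mul, pow_mul, C.g_four,
    C.g_four, one_pow, one_pow, one_mul]

end CE

/-- coordinates exist -/
theorem exists_ce {M : Type*} [Group M] {F : Type*} [Field F] [Fintype F] (hF : Fintype.card F = 4)
    (e : M ⧸ center M ≃* Matrix.ProjectiveSpecialLinearGroup (Fin 3) F) :
    ∃ π : M →* PSL3, CE π ∧ π.ker = center M := by
  obtain ⟨e'⟩ := nonempty_psl_equiv (n := Fin 3) F hF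
  let π : M →* PSL3 := (e.trans e'.symm).toMonoidHom.comp (QuotientGroup.mk' (center M))
  have hker : π.ker = center M := by
    ext k
    rw [MonoidHom.mem_ker]
    show (e.trans e'.symm) (QuotientGroup.mk k) = 1 ↔ _
    rw [map_eq_one_iff _ (e.trans e'.symm).injective, QuotientGroup.eq_one_iff]
  refine ⟨π, ⟨?_, ?_⟩, hker⟩
  · exact (e.trans e'.symm).surjective.comp (QuotientGroup.mk'_surjective _)
  · intro k hk m
    have : k ∈ π.ker := hk
    rw [hker, mem_center_iff] at this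
    exact (this m).symm

/-- **The exponent of the centre divides four.** -/
theorem center_four {M : Type*} [Group M] [Finite M] (hperf : commutator M = ⊤)
    (h2 : IsPGroup 2 (center M)) {F : Type*} [Field F] [Fintype F] (hF : Fintype.card F = 4)
    (e : M ⧸ center M ≃* Matrix.ProjectiveSpecialLinearGroup (Fin 3) F) (z : M)
    (hz : z ∈ center M) : z ^ 4 = 1 := by
  obtain ⟨π, C, hker⟩ := exists_ce hF e
  rw [← hker] at h2 hz
  exact C.ker_four hperf h2 z hz

/-- involutions (and `1`) of the centre -/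
def omega (M : Type*) [Group M] : Subgroup M where
  carrier := {k | k ∈ center M ∧ k * k = 1}
  mul_mem' := by
    rintro a b ⟨ha, ha2⟩ ⟨hb, hb2⟩
    refine ⟨mul_mem ha hb, ?_⟩
    calc a * b * (a * b) = a * (b * a) * b := by group
      _ = a * (a * b) * b := by rw [mem_center_iff.mp ha b]
      _ = (a * a) * (b * b) := by group
      _ = 1 := by rw [ha2, hb2, one_mul]
  one_mem' := ⟨one_mem _, one_mul 1⟩
  inv_mem' := by
    rintro a ⟨ha, ha2⟩
    refine ⟨inv_mem ha, ?_⟩
    have := congrArg (·⁻¹) ha2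
    simpa using this

/-- **The 2-rank of the centre is at most two.** -/
theorem card_omega_le {M : Type*} [Group M] [Finite M] (hperf : commutator M = ⊤)
    (h2 : IsPGroup 2 (center M)) {F : Type*} [Field F] [Fintype F] (hF : Fintype.card F = 4)
    (e : M ⧸ center M ≃* Matrix.ProjectiveSpecialLinearGroup (Fin 3) F) :
    Nat.card (omega M) ≤ 4 := by
  obtain ⟨π, C, hker⟩ := exists_ce hF e
  have hmem : ∀ k, k ∈ center M → π k = 1 := fun k hk => by
    rw [← hker] at hk; exact hk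
  have h2' : IsPGroup 2 π.ker := by rw [hker]; exact h2
  have hmem' : ∀ k, π k = 1 → k ∈ center M := fun k hk => by
    rw [← hker]; exact hk
  -- squaring
  let sq : center M →* center M :=
    { toFun := fun a => a * a
      map_one' := one_mul 1
      map_mul' := fun a b => by
        apply Subtype.ext
        show (a : M) * b * (a * b) = a * a * (b * b)
        have := mem_center_iff.mp a.2 b
        calc (a : M) * b * (a * b) = a * ((b : M) * a) * b := by group
          _ = a * ((a : M) * b) * b := by rw [this]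
          _ = _ := by group }
  have hker2 : Nat.card sq.ker = Nat.card (omega M) := by
    apply Nat.card_congr
    exact
      { toFun := fun a => ⟨a.1.1, a.1.2, congrArg Subtype.val a.2⟩
        invFun := fun a => ⟨⟨a.1, a.2.1⟩, Subtype.ext a.2.2⟩
        left_inv := fun a => rfl
        right_inv := fun a => rfl }
  have h3 : Nat.card sq.ker * Nat.card sq.range = Nat.card (center M) := by
    rw [← Subgroup.index_ker]; exact card_mul_index _
  -- the quotient by the squares has at most four elements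
  have hn : sq.range.Normal := ⟨fun a ha b => by
    have : b * a * b⁻¹ = a := by
      apply Subtype.ext
      show (b : M) * a * (b : M)⁻¹ = a
      rw [mem_center_iff.mp a.2 b, mul_inv_cancel_right]
    rw [this]; exact ha⟩
  let G1 : center M := ⟨C.g 1, hmem' _ (C.g_map 1)⟩
  let Gw : center M := ⟨C.g ω, hmem' _ (C.g_map ω)⟩
  let φ : Fin 2 × Fin 2 → center M ⧸ sq.range :=
    fun p => QuotientGroup.mk (G1 ^ (p.1 : ℕ) * Gw ^ (p.2 : ℕ))
  have hφ : Function.Surjective φ := by
    intro q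
    obtain ⟨k, rfl⟩ := QuotientGroup.mk_surjective q
    obtain ⟨a, b, hab⟩ := C.ker_form hperf h2' k (hmem _ k.2)
    refine ⟨(⟨a % 2, Nat.mod_lt _ (by norm_num)⟩, ⟨b % 2, Nat.mod_lt _ (by norm_num)⟩), ?_⟩
    show (QuotientGroup.mk (G1 ^ (a % 2) * Gw ^ (b % 2)) : center M ⧸ sq.range) = _
    rw [QuotientGroup.eq]
    refine ⟨G1 ^ (a / 2) * Gw ^ (b / 2), ?_⟩
    apply Subtype.ext
    show C.g 1 ^ (a / 2) * C.g ω ^ (b / 2) * (C.g 1 ^ (a / 2) * C.g ω ^ (b / 2)) =
      (C.g 1 ^ (a % 2) * C.g ω ^ (b % 2))⁻¹ * k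
    have hc : ∀ i j : ℕ, C.g ω ^ i * C.g 1 ^ j = C.g 1 ^ j * C.g ω ^ i := fun i j =>
      (((show Commute (C.g ω) (C.g 1 ^ j) from C.g_cen ω _).pow_left i)).eq
    rw [hab, eq_inv_mul_iff_mul_eq]
    conv_rhs => rw [← Nat.mod_add_div a 2, ← Nat.mod_add_div b 2]
    have key : ∀ p q r s : ℕ, C.g 1 ^ p * C.g ω ^ q * (C.g 1 ^ r * C.g ω ^ s *
        (C.g 1 ^ r * C.g ω ^ s)) = C.g 1 ^ (p + 2 * r) * C.g ω ^ (q + 2 * s) := by
      intro p q r s
      have e1 : C.g 1 ^ r * C.g ω ^ s * (C.g 1 ^ r * C.g ω ^ s) = C.g 1 ^ (2 * r) * C.g ω ^ (2 * s) := by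
        calc C.g 1 ^ r * C.g ω ^ s * (C.g 1 ^ r * C.g ω ^ s)
            = C.g 1 ^ r * (C.g ω ^ s * C.g 1 ^ r) * C.g ω ^ s := by simp only [mul_assoc]
          _ = C.g 1 ^ r * C.g 1 ^ r * (C.g ω ^ s * C.g ω ^ s) := by rw [hc]; simp only [mul_assoc]
          _ = _ := by rw [two_mul, two_mul, pow_add, pow_add]
      rw [e1]
      calc C.g 1 ^ p * C.g ω ^ q * (C.g 1 ^ (2 * r) * C.g ω ^ (2 * s))
          = C.g 1 ^ p * (C.g ω ^ q * C.g 1 ^ (2 * r)) * C.g ω ^ (2 * s) := by
            simp only [mul_assoc]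
        _ = C.g 1 ^ p * C.g 1 ^ (2 * r) * (C.g ω ^ q * C.g ω ^ (2 * s)) := by
            rw [hc]; simp only [mul_assoc]
        _ = _ := by rw [pow_add, pow_add]
    exact key _ _ _ _
  have h4 : Nat.card (center M ⧸ sq.range) ≤ 4 := by
    have := Nat.card_le_card_of_surjective φ hφ
    rw [Nat.card_prod] at this
    simpa using this
  have h5 := card_mul_index sq.range
  have h6 : sq.range.index = Nat.card (center M ⧸ sq.range) := rfl
  have h7 : 0 < Nat.card sq.range := Nat.card_pos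
  rw [← h3, hker2, h6, mul_comm] at h5
  have := Nat.eq_of_mul_eq_mul_right h7 h5
  omega

/-- an abelian group of exponent four with at most one involution is cyclic -/
theorem isCyclic_of_le_two {A : Type*} [CommGroup A] [Finite A] (h4 : ∀ a : A, a ^ 4 = 1)
    (h2 : Nat.card {a : A // a * a = 1} ≤ 2) : IsCyclic A := by
  classical
  have : Fintype A := Fintype.ofFinite A
  -- `|A| ≤ 4`
  let sq : A →* A := powMonoidHom 2
  have hk : Nat.card sq.ker ≤ 2 := by
    refine le_trans (le_of_eq (Nat.card_congr (Equiv.subtypeEquivRight (fun a => ?_)))) h2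
    show a ^ 2 = 1 ↔ a * a = 1
    rw [pow_two]
  have hr : Nat.card sq.range ≤ 2 := by
    refine le_trans ?_ hk
    refine Subgroup.card_le_of_le ?_
    rintro _ ⟨a, rfl⟩
    show (a ^ 2) ^ 2 = 1
    rw [← pow_mul]; exact h4 a
  have hA : Nat.card A ≤ 4 := by
    have h := card_mul_index sq.ker
    rw [Subgroup.index_ker] at h
    rw [← h]
    calc Nat.card sq.ker * Nat.card sq.range ≤ 2 * 2 := Nat.mul_le_mul hk hr
      _ = 4 := rfl
  apply isCyclic_of_card_pow_eq_one_le
  intro n hn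
  rcases (by omega : n = 1 ∨ n = 2 ∨ n = 3 ∨ 4 ≤ n) with rfl | rfl | rfl | h
  · have : (Finset.univ.filter fun a : A => a ^ 1 = 1) ⊆ {1} := by
      intro a ha
      simpa using ha
    exact le_trans (Finset.card_le_card this) (by simp)
  · rw [Nat.card_eq_fintype_card, Fintype.card_subtype] at h2
    refine le_trans (le_of_eq ?_) h2
    congr 1
    ext a
    simp [pow_two]
  · have : (Finset.univ.filter fun a : A => a ^ 3 = 1) ⊆ {1} := by
      intro a ha
      have h3 : a ^ 3 = 1 := by simpa using ha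
      have h4 := h4 a
      rw [Finset.mem_singleton]
      calc a = a ^ 4 * (a ^ 3)⁻¹ := by group
        _ = 1 := by rw [h4, h3]; group
    exact le_trans (Finset.card_le_card this) (by simp)
  · refine le_trans (Finset.card_le_univ _) ?_
    rw [← Nat.card_eq_fintype_card]
    omega

/-- **A noncyclic centre has exactly three involutions.** -/
theorem card_omega {M : Type*} [Group M] [Finite M] (hperf : commutator M = ⊤)
    (h2 : IsPGroup 2 (center M)) {F : Type*} [Field F] [Fintype F] (hF : Fintype.card F = 4)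
    (e : M ⧸ center M ≃* Matrix.ProjectiveSpecialLinearGroup (Fin 3) F)
    (hnc : ¬ IsCyclic (center M)) : Nat.card (omega M) = 4 := by
  have h1 := card_omega_le hperf h2 hF e
  have h4 := center_four hperf h2 hF e
  have h3 : ¬ Nat.card (omega M) ≤ 2 := by
    intro h
    apply hnc
    let icg : CommGroup (center M) :=
      { (inferInstance : Group (center M)) with
        mul_comm := fun a b => Subtype.ext (mem_center_iff.mp b.2 a) }
    refine isCyclic_of_le_two (A := center M) ?_ ?_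
    · intro a
      exact Subtype.ext (h4 a a.2)
    · refine le_trans (le_of_eq (Nat.card_congr ?_)) h
      exact
        { toFun := fun a => ⟨a.1.1, a.1.2, congrArg Subtype.val a.2⟩
          invFun := fun a => ⟨⟨a.1, a.2.1⟩, Subtype.ext a.2.2⟩
          left_inv := fun a => rfl
          right_inv := fun a => rfl }
  have h5 : Nat.card (omega M) ≠ 3 := by
    intro h
    obtain ⟨x, hx⟩ : ∃ x : omega M, x ≠ 1 := by
      have : 1 < Nat.card (omega M) := by omega
      rw [Finite.one_lt_card_iff_nontrivial] at this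
      exact exists_ne 1
    have h6 : orderOf x = 2 := by
      apply orderOf_eq_prime _ hx
      rw [pow_two]
      exact Subtype.ext x.2.2
    have h7 := orderOf_dvd_natCard x
    rw [h6, h] at h7
    omega
  omega

/-- a cyclic centre has order `1`, `2` or `4` -/
theorem card_cyclic {M : Type*} [Group M] [Finite M] (hperf : commutator M = ⊤)
    (h2 : IsPGroup 2 (center M)) {F : Type*} [Field F] [Fintype F] (hF : Fintype.card F = 4)
    (e : M ⧸ center M ≃* Matrix.ProjectiveSpecialLinearGroup (Fin 3) F)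
    (hc : IsCyclic (center M)) : Nat.card (center M) ∣ 4 := by
  obtain ⟨z, hz⟩ := hc.exists_generator
  rw [← orderOf_eq_card_of_forall_mem_zpowers hz]
  apply orderOf_dvd_of_pow_eq_one
  exact Subtype.ext (center_four hperf h2 hF e z z.2)

end Cfsg.Agent.OddHalf.D9.L34Mult
end
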